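import Cfsg.Agent.Lib.GHB.WreA
import Cfsg.Agent.Lib.W2.M12c
import Cfsg.Agent.Lib.SylT.J2a
import Cfsg.Agent.Lib.Ly.Main

/-! Package ID: identification of the three types. -/

set_option autoImplicit false
set_option Elab.async false
set_option maxRecDepth 100000

namespace CfsgLib.GHB

open Subgroup CfsgLib.Tech CfsgLib.W2 CfsgLib.SylT
open scoped commutatorElement

variable {X : Type*} [Group X] [Finite X] {S : Subgroup X}

theorem Big.equiv_TM {n : ℕ} {x y s d : X} (h : Big S n 0 x y s d) (hn : 2 ≤ n) :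
    Nonempty (S ≃* TM (ZMod (2 ^ n))) := by
  have h4 : 2 ^ 2 ≤ 2 ^ n := Nat.pow_le_pow_right (by norm_num) hn
  obtain ⟨φ, hφ, e⟩ := W2.exists_hom (N := 2 ^ n) (x := x) (y := y) (r := s) (w := d) (by omega) h.xy
    (fun i j => by rw [h.ind]; push_cast; rfl) h.ss h.dd h.sd h.sx (by simpa using h.dx)
  have hle : φ.range ≤ S := by
    rintro _ ⟨p, rfl⟩
    rw [e]
    exact mul_mem (mul_mem (mul_mem (zpow_mem h.xS _) (zpow_mem h.yS _))
      (by split_ifs; exacts [h.sS, one_mem _])) (by split_ifs; exacts [h.dS, one_mem _])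
  have hc : Nat.card φ.range = 4 ^ (n + 1) := by
    rw [← Nat.card_congr (MonoidHom.ofInjective hφ).toEquiv, TM.card_eq, Nat.card_zmod, ← pow_mul,
      show (4 : ℕ) = 2 ^ 2 by norm_num, ← pow_mul]
    ring
  have he : φ.range = S := eq_of_le_of_card_ge hle (by rw [hc, h.card (Or.inl ⟨rfl, hn⟩)])
  exact ⟨(MulEquiv.subgroupCongr he.symm).trans (MonoidHom.ofInjective hφ).symm⟩

theorem three_pow_two_pow (j : ℕ) : ∃ m, Odd m ∧ 3 ^ 2 ^ (j + 1) = 1 + 8 * 2 ^ j * m := by
  induction j with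
  | zero => exact ⟨1, odd_one, by norm_num⟩
  | succ j ih =>
    obtain ⟨m, hm, e⟩ := ih
    refine ⟨m * (1 + 2 * (2 * 2 ^ j * m)), hm.mul (by rw [add_comm]; exact odd_two_mul_add_one _), ?_⟩
    rw [pow_succ 2 (j + 1), pow_mul, e]
    ring

theorem Big.equiv_G2 {n : ℕ} {x y s d : X} (h : Big S n 0 x y s d) (hn : 3 ≤ n) :
    ∃ (F : Type) (_ : Field F) (_ : Fintype F), Fintype.card F % 8 = 1 ∧
      ∃ P : Sylow 2 (Cfsg.Lie.chevG2.group F),
        Nonempty (S ≃* (P : Subgroup (Cfsg.Lie.chevG2.group F))) := by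
  obtain ⟨j, rfl⟩ := Nat.exists_eq_add_of_le' hn
  have : Fact (Nat.Prime 3) := ⟨by norm_num⟩
  let F := GaloisField 3 (2 ^ (j + 1))
  let _ : Fintype F := Fintype.ofFinite F
  obtain ⟨m, hm, e⟩ := three_pow_two_pow j
  have hq : Fintype.card F = 1 + 8 * 2 ^ j * m := by
    rw [← Nat.card_eq_fintype_card, GaloisField.card 3 _ (by positivity), e]
  have hF : Odd (Fintype.card F) := by
    rw [hq, add_comm, show 8 * 2 ^ j * m = 2 * (4 * 2 ^ j * m) by ring]; exact odd_two_mul_add_one _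
  refine ⟨F, inferInstance, inferInstance, by rw [hq, mul_assoc]; omega, ?_⟩
  have h2 : (2 : F) ≠ 0 := Ring.two_ne_zero fun h => by
    have := FiniteField.even_card_iff_char_two.1 h
    have := Nat.odd_iff.1 hF
    omega
  obtain ⟨φ, hφ⟩ := exists_hom_G2 (F := F) (N := 2 ^ (j + 3))
    (by have := Nat.one_le_two_pow (n := j); rw [pow_add]; omega)
    (by push_cast; positivity) (Or.inl ⟨m, by rw [hq, Nat.add_sub_cancel_left]; ring⟩)
  have hc : Nat.card φ.range = 2 ^ (2 * j + 8) := by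
    rw [← Nat.card_congr (MonoidHom.ofInjective hφ).toEquiv, TM.card_eq, Nat.card_zmod]; ring
  have e2 : Fintype.card F ^ 2 - 1 = 16 * 2 ^ j * (m * (1 + 2 * (2 * 2 ^ j * m))) := by
    rw [Nat.sub_eq_of_eq_add]; rw [hq]; ring
  have hm' : Odd (m * (1 + 2 * (2 * 2 ^ j * m))) :=
    hm.mul (by rw [add_comm]; exact odd_two_mul_add_one _)
  generalize m * (1 + 2 * (2 * 2 ^ j * m)) = m' at e2 hm'
  have hi : φ.range.index = Fintype.card F ^ 6 * m' ^ 2 *
      (Fintype.card F ^ 4 + Fintype.card F ^ 2 + 1) := by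
    have h1 := φ.range.card_mul_index
    have h3 : Fintype.card F ^ 6 - 1 = (Fintype.card F ^ 2 - 1) *
        (Fintype.card F ^ 4 + Fintype.card F ^ 2 + 1) := by
      have := Nat.one_le_pow 2 _ (Fintype.card_pos (α := F))
      rw [Nat.sub_eq_of_eq_add]; zify [this]; ring
    rw [RGD.card_G2 F rfl, h3, e2, hc] at h1
    exact Nat.eq_of_mul_eq_mul_left (Nat.two_pow_pos (2 * j + 8)) (by rw [h1]; ring)
  obtain ⟨ψ⟩ := h.equiv_TM (by omega)
  exact ⟨(IsPGroup.of_card hc).toSylow (by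
    rw [hi, ← even_iff_two_dvd, Nat.not_even_iff_odd]
    exact (hF.pow.mul hm'.pow).mul (hF.pow.add_odd hF.pow).add_one),
    ⟨ψ.trans (MonoidHom.ofInjective hφ)⟩⟩

omit [Finite X] in
theorem swap_of_comm {p q r : X} (h : ⁅p, q⁆ = r) : p * q = r * (q * p) := by
  rw [← h, commutatorElement_def]; group

omit [Finite X] in
theorem swap_of_conj {p q r : X} (h : p * q * p⁻¹ = r) : p * q = r * p := by
  rw [← h, inv_mul_cancel_right]

omit [Finite X] in
theorem swap_back {p q r : X} (h2 : p * p = 1) (h : p * q * p⁻¹ = r) : p * r = q * p := by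
  rw [← h, inv_eq_of_mul_eq_one_right h2, ← mul_assoc, ← mul_assoc, h2, one_mul]

/-- A group of the right order with the same letters is isomorphic to `S`. -/
theorem equiv_of_hom {M : Type*} [Group M] [Finite M] (φ : M →* X) (h1 : S ≤ φ.range)
    (h2 : Nat.card S = Nat.card M) : Nonempty (S ≃* M) := by
  have h3 : Nat.card φ.range ≤ Nat.card M := Nat.card_le_card_of_surjective _ φ.rangeRestrict_surjective
  have h4 : S = φ.range := eq_of_le_of_card_ge h1 (h2 ▸ h3)
  exact ⟨(MulEquiv.subgroupCongr h4).trans (MulEquiv.ofBijective φ.rangeRestrict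
    ((Nat.bijective_iff_surjective_and_card _).2 ⟨φ.rangeRestrict_surjective, by rw [← h4, h2]⟩)).symm⟩

/-- the conjugate relations of the `J₂` type, letters `s, a, a', b, b', u, z` -/
def cjJ (i j : ℕ) : List ℕ :=
  ([[[], [3], [4], [1], [2], [6, 5]], [[], [], [2], [6, 3], [5, 4]],
    [[], [], [], [6, 5, 3], [6, 4]]].getD i []).getD j [j]

omit [Finite X] in
theorem RelJ.pc {s a a' b b' z u : X} (h : RelJ S s a a' b b' z u) :
    PcRel (fun i => [s, a, a', b, b', u, z].getD i 1) 7 (fun _ => []) cjJ := by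
  have cz := h.cz
  have cu := h.cu
  simp only [Set.mem_insert_iff, Set.mem_singleton_iff, forall_eq_or_imp, forall_eq] at cz cu
  obtain ⟨z1, z2, z3, z4⟩ := cz
  obtain ⟨u1, u2, u3, u4⟩ := cu
  have e1 := swap_of_comm h.ab
  have e2 := swap_of_comm h.a'b
  have e3 := swap_of_comm h.ab'
  have e4 := swap_of_comm h.a'b'
  have e5 := swap_of_conj h.sa
  have e6 := swap_of_conj h.sa'
  have e7 := swap_back h.ss h.sa
  have e8 := swap_back h.ss h.sa'
  have e9 := swap_of_conj h.su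
  have := h.sz
  have := h.ca
  have := h.cb
  have := h.zu.symm
  rw [mul_assoc] at e2 e9
  intro i hi
  refine ⟨?_, fun j hj hij => ?_⟩
  · interval_cases i
    exacts [h.ss, h.aa, h.aa', h.bb, h.bb', h.uu, h.zz]
  · interval_cases j <;> interval_cases i <;>
      simp only [ew, cjJ, List.getD_cons_succ, List.getD_cons_zero, List.getD_nil, List.map_cons,
        List.map_nil, List.prod_cons, List.prod_nil, mul_one, mul_assoc] <;> assumption

theorem RelJ.equiv {s a a' b b' z u : X} (h : RelJ S s a a' b b' z u) :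
    ∃ P : Sylow 2 Cfsg.Spor.J2, Nonempty (S ≃* (P : Subgroup Cfsg.Spor.J2)) := by
  obtain ⟨φ, hφ⟩ := exists_hom_pc (g := fun i => (TG.o (tab1 7 127 0x4f4a4d01002 i) : TJ)) (by decide)
    h.pc (by decide +kernel) TJ.card_T.ge fun H hH => TG.eq_top_of_genB TJ.gen3 (by
      simp only [List.forall_mem_cons]
      exact ⟨hH 0 (by norm_num), hH 1 (by norm_num), hH 2 (by norm_num), by simp⟩)
  obtain ⟨e⟩ := equiv_of_hom (S := S) φ (by
    rw [h.gen, closure_le]
    simp only [Set.insert_subset_iff, Set.singleton_subset_iff]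
    exact ⟨⟨_, hφ 0 (by norm_num)⟩, ⟨_, hφ 1 (by norm_num)⟩, ⟨_, hφ 2 (by norm_num)⟩,
      ⟨_, hφ 3 (by norm_num)⟩, ⟨_, hφ 4 (by norm_num)⟩, ⟨_, hφ 6 (by norm_num)⟩,
      ⟨_, hφ 5 (by norm_num)⟩⟩) (h.card.trans TJ.card_T.symm)
  have : Finite Cfsg.Spor.J2 := Nat.finite_of_card_ne_zero (by rw [J2.card_J2]; norm_num)
  obtain ⟨ψ, -, -, -, -, -, -, h1, h2⟩ := TJ.exists_J2
  exact ⟨h2.toSylowTop, ⟨e.trans (MonoidHom.ofInjective h1)⟩⟩

/-- the conjugate relations of the `Ly` type, letters `s, d, a, a', b, b', u, z` -/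
def cjL (i j : ℕ) : List ℕ :=
  ([[[], [1], [2], [2, 3], [4], [4, 5], [7, 6]], [[], [], [4], [5], [2], [3]],
    [[], [], [], [3], [7, 4], [7, 6, 5]], [[], [], [], [], [7, 6, 4], [6, 5]]].getD i []).getD j [j]

omit [Finite X] in
theorem RelLy.pc {s d a a' b b' z u : X} (h : RelLy S s d a a' b b' z u) :
    PcRel (fun i => [s, d, a, a', b, b', u, z].getD i 1) 8 (fun _ => []) cjL := by
  have cz := h.cz
  have cu := h.cu
  simp only [Set.mem_insert_iff, Set.mem_singleton_iff, forall_eq_or_imp, forall_eq] at cz cu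
  obtain ⟨z1, z2, z3, z4⟩ := cz
  obtain ⟨u1, u2, u3, u4⟩ := cu
  have e1 := swap_of_comm h.ab
  have e2 := swap_of_comm h.a'b
  have e3 := swap_of_comm h.ab'
  have e4 := swap_of_comm h.a'b'
  have e5 := swap_of_conj h.da
  have e6 := swap_of_conj h.da'
  have e7 := swap_back h.dd h.da
  have e8 := swap_back h.dd h.da'
  have e9 := swap_of_conj h.su
  have e10 := swap_of_conj h.sa'
  have c : ∀ v, s * (d * v * d⁻¹) = d * (s * v * s⁻¹) * d⁻¹ * s := fun v => by
    have : s * d⁻¹ = d⁻¹ * s := ((show Commute s d from h.sd).inv_right).eq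
    calc _ = s * d * v * s⁻¹ * (s * d⁻¹) := by group
      _ = _ := by rw [this, h.sd]; group
  have e11 : s * b = b * s := by rw [← h.da, c, h.sa, mul_inv_cancel_right]
  have e12 : s * b' = b * (b' * s) := by
    rw [← mul_assoc, ← h.da, ← h.da', c, h.sa', conj_mul]
  have := h.sz
  have := h.sd
  have := h.sa
  have := h.dz
  have := h.du
  have := h.ca
  have := h.cb
  have := h.zu.symm
  rw [mul_assoc] at e2 e3 e9 e10
  intro i hi
  refine ⟨?_, fun j hj hij => ?_⟩
  · interval_cases i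
    exacts [h.ss, h.dd, h.aa, h.aa', h.bb, h.bb', h.uu, h.zz]
  · interval_cases j <;> interval_cases i <;>
      simp only [ew, cjL, List.getD_cons_succ, List.getD_cons_zero, List.getD_nil, List.map_cons,
        List.map_nil, List.prod_cons, List.prod_nil, mul_one, mul_assoc] <;> assumption

/-- the multiplication of the Sylow 2-subgroup of `L₃(4)` -/
noncomputable def mL3 : ℕ → ℕ → ℕ := sdm 16 Nat.xor Nat.xor (tab2 4 15 16
  0xcdefab8954763210efcd98ba45673210dcfe89ab67453210fedcba9876543210)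

/-- the action of `d` and `s` -/
noncomputable def actL : ℕ → ℕ → ℕ := tab2 6 63 64 0xa29aeaefae3965869b28b248beeb2df7cfbf71d7de38f34c9649a7d35df65d65151871448a3860cb3c70493450083040aaba68bafb6c9a79648a3860ebbe78fbff7cdb7d74cb3c7069b65879f75c59755449345028b24838f34c187144083040f3dfbfbafb2d75c7de3ce34cebbe39a68aea61969b2ca248d74df69259a75975151c6144cf2c708e28604d24500c2040ffef7cefae78df6d74cf2c70beeb6caeaa689e69648e28607de75c6da6585d65544d24503ce34c2ca2481c61440c2040

theorem okV4 : SOk 4 Nat.xor := SOk.of_light (gs := [1, 2]) (D := 2) (by decide +kernel)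

theorem okL3 : SOk (16 * 4) mL3 :=
  (SOk.of_light (gs := [1, 2, 4, 8]) (D := 4) (by decide +kernel)).sd okV4 (by decide +kernel)

theorem okL : TOk (64 * 4) (sdm 64 mL3 Nat.xor actL) (tab1 8 255 0xeaebe9e8fafbf9f8dadbd9d8cacbc9c8eeefedecfefffdfcdedfdddccecfcdcce6e7e5e4f6f7f5f4d6d7d5d4c6c7c5c4e2e3e1e0f2f3f1f0d2d3d1d0c2c3c1c0a8a9abaaafaeacada5a4a6a7a2a3a1a0bbbab8b9bdbcbebfb4b5b7b6b2b3b1b099989a9b9c9d9f9e97969495929391908a8b89888e8f8d8c86878584828381807f7e7d7c6f6e6d6c5f5e5d5c4f4e4d4c7b7a79786b6a69685b5a59584b4a494877767574676665645756555447464544737271706362616053525150434241403c3d3e3f3a3b383935343736333231302e2f2c2d29282b2a24252627232221201d1c1f1e18191a1b16171415131211100f0e0d0c0b0a09080706050403020100) :=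
  (okL3.sd okV4 (by decide +kernel)).tok (by decide +kernel)

/-- the Sylow 2-subgroup of `Ly` -/
abbrev TL : Type := TG okL

/-- the polycyclic generators -/
noncomputable def pgL (i : ℕ) : TL := TG.o (tab1 8 255 0x102201008044080 i)

theorem TL.card : Nat.card TL = 256 := TG.card_eq

theorem TL.exists_hom {G : Type*} [Group G] {x : ℕ → G} (h : PcRel x 8 (fun _ => []) cjL) :
    ∃ φ : TL →* G, ∀ i < 8, φ (pgL i) = x i :=
  exists_hom_pc (by decide) h (by decide +kernel) TL.card.ge fun H hH =>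
    TG.eq_top_of_genB (gs := [pgL 0, pgL 1, pgL 3]) (D := 12) (by decide +kernel) (by
      simp only [List.forall_mem_cons]
      exact ⟨hH 0 (by norm_num), hH 1 (by norm_num), hH 3 (by norm_num), by simp⟩)

theorem TL.inj_of {G : Type*} [Group G] {φ : TL →* G} (h : φ (pgL 7) ≠ 1) : Function.Injective φ := by
  rw [← MonoidHom.ker_eq_bot_iff]
  by_contra hn
  have := (IsPGroup.of_card (p := 2) (n := 8) TL.card).isNilpotent
  obtain ⟨c, h1, h2, h3⟩ := PGroup.exists_mem_center_of_normal φ.ker hn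
  have h4 := fun s => (mem_center_iff.1 h2 s).symm
  rcases (by decide +kernel : ∀ p : TL, p * pgL 0 = pgL 0 * p → p * pgL 1 = pgL 1 * p →
    p * pgL 3 = pgL 3 * p → p = 1 ∨ p = pgL 7) c (h4 _) (h4 _) (h4 _) with e | e
  exacts [h3 e, h (e ▸ h1)]

open CfsgLib.Ly CfsgLib.CosetEnum CfsgLib.LinP

/-- the letters as words in the lifts of the transpositions -/
def wdL : List (List ℕ) := [[2, 3, 2, 4, 3, 2, 6, 7, 6, 8, 7, 6], [2, 4, 7], [2, 4, 7, 6, 8, 7],
  [2, 3, 5, 4, 3, 2, 6, 5, 4, 3, 7, 6, 5, 4, 3, 2, 8, 7, 6, 5], [2, 4, 8, 6],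
  [4, 5, 4, 3, 2, 6, 5, 4, 3, 7, 6, 5, 4, 8, 7, 6, 5, 4], [3, 2, 4, 3, 6, 7, 8, 6, 7, 6], [2, 2]]

/-- Evaluate the matrices of the words before continuing. -/
noncomputable def frcW (ws : List (List ℕ)) : (List ℕ → Bool) → Bool :=
  List.rec (fun k => k []) (fun w _ ih k =>
    CosetEnum.force (actM PB YL w (idP PB)) fun a => ih fun t => k (a :: t)) ws

theorem frcW_eq : ∀ (ws : List (List ℕ)) (k : List ℕ → Bool),
    frcW ws k = k (ws.map fun w => actM PB YL w (idP PB))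
  | [], _ => rfl
  | w :: l, k => by
    have e : frcW (w :: l) k =
      CosetEnum.force (actM PB YL w (idP PB)) fun a => frcW l fun t => k (a :: t) := rfl
    rw [e, CosetEnum.force_eq, frcW_eq l, List.map_cons]

theorem chkL : frcW wdL (fun L => allN (fun i => eqM PB L [i, i] [] && allN (fun j =>
    Nat.ble j i || eqM PB L [i, j] (cjL i j ++ [i])) 8) 8 && !eqM PB L [7] []) = true := by
  decide +kernel

theorem exists_Ly : ∃ x : ℕ → Cfsg.Spor.Ly, PcRel x 8 (fun _ => []) cjL ∧ x 7 ≠ 1 := by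
  have M := MB1
  have hy := M.words (n := 10) rfl rfl YW_ok
  set y := fun i => ev gB (nth [] YW i)
  have h := chkL
  rw [frcW_eq] at h
  set L := wdL.map fun w => actM PB YL w (idP PB) with hL
  let x : ℕ → Cfsg.Spor.Ly := fun i => ((wdL.getD i []).map y).prod
  have hx : ∀ i, StM 5 111 24 bIdx (nth (idP PB) L i) (((Units.coeHom _).comp ρB) (x i)) := fun i => by
    have e : nth (idP PB) L i = actM PB YL (wdL.getD i []) (idP PB) := by
      rw [nth_eq, hL]; exact List.getD_map wdL [] fun w => actM PB YL w (idP PB)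
    rw [e]; exact M.pos hy _
  have he : ∀ {v w}, eqM PB L v w = true → ew x v = ew x w := fun h =>
    rho_inj ((M.pos hx _).eq M.enum (Nat.eq_of_beq_eq_true h ▸ M.pos hx _))
  simp only [Bool.and_eq_true, allN_iff, Bool.or_eq_true, Nat.ble_eq, Bool.not_eq_eq_eq_not,
    Bool.not_true] at h
  refine ⟨x, fun i hi => ⟨by simpa [ew] using he (h.1 i hi).1, fun j hj hij => ?_⟩, ?_⟩
  · simpa [ew] using he (((h.1 i hi).2 j hj).resolve_left (by omega))
  · simpa using M.ne_one (M.pos hx [7]) h.2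

theorem RelLy.equiv {s d a a' b b' z u : X} (h : RelLy S s d a a' b b' z u) :
    ∃ P : Sylow 2 Cfsg.Spor.Ly, Nonempty (S ≃* (P : Subgroup Cfsg.Spor.Ly)) := by
  obtain ⟨φ, hφ⟩ := TL.exists_hom h.pc
  obtain ⟨e⟩ := equiv_of_hom (S := S) φ (by
    rw [h.gen, closure_le]
    simp only [Set.insert_subset_iff, Set.singleton_subset_iff]
    exact ⟨⟨_, hφ 0 (by norm_num)⟩, ⟨_, hφ 1 (by norm_num)⟩, ⟨_, hφ 2 (by norm_num)⟩,
      ⟨_, hφ 3 (by norm_num)⟩, ⟨_, hφ 4 (by norm_num)⟩, ⟨_, hφ 5 (by norm_num)⟩,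
      ⟨_, hφ 7 (by norm_num)⟩, ⟨_, hφ 6 (by norm_num)⟩⟩) (h.card.trans TL.card.symm)
  obtain ⟨x, h1, h2⟩ := exists_Ly
  obtain ⟨ψ, hψ⟩ := TL.exists_hom h1
  have h3 := TL.inj_of (φ := ψ) (hψ 7 (by norm_num) ▸ h2)
  have hc : Nat.card ψ.range = 2 ^ 8 := by
    rw [← Nat.card_congr (MonoidHom.ofInjective h3).toEquiv, TL.card]; rfl
  have h4 := ψ.range.card_mul_index
  rw [hc, Ly.card_eq] at h4
  exact ⟨(IsPGroup.of_card hc).toSylow (by omega), ⟨e.trans (MonoidHom.ofInjective h3)⟩⟩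

end CfsgLib.GHB
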