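import Mathlib
import Cfsg.Agent.Lib.GHB.JTa

/-! The case (α) of `NF.alpha_or_beta`: common facts (plans/GHB.md, part 3, E0). -/

set_option autoImplicit false

namespace CfsgLib.GHB

open Subgroup CfsgLib.Tech CfsgLib.W2
open scoped commutatorElement

variable {X : Type*} [Group X] [Finite X] {S A P : Subgroup X} {z u r : X}

theorem isConj_conj (g a : X) : IsConj a (g * a * g⁻¹) := isConj_iff.2 ⟨g, rfl⟩

namespace NF
variable (h : NF S A P z u r)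
include h

theorem om_inv {g : X} (hg : g ∈ normalizer (P : Set X)) : g⁻¹ * z * g ∈ Omg P z :=
  ⟨g⁻¹, inv_mem hg, by simp⟩

theorem inv_ne {g : X} (hz : g * z * g⁻¹ ≠ z) : g⁻¹ * z * g ≠ z := fun e =>
  hz (by nth_rw 1 [← e]; group)

theorem nconj {v : X} (hv : v = u ∨ v = z * u) : ¬ IsConj z v := by
  rcases hv with rfl | rfl
  exacts [h.nu, h.nzu]

theorem hv_z {v : X} (hv : v = u ∨ v = z * u) : z * v = u ∨ z * v = z * u := by
  rcases hv with rfl | rfl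
  exacts [Or.inr rfl, Or.inl (by rw [← mul_assoc, h.zz, one_mul])]

theorem memU' {v w : X} (hv : v = u ∨ v = z * u) (hw : w ∈ closure ({z, u} : Set X)) :
    w = 1 ∨ w = z ∨ w = v ∨ w = z * v := by
  rcases hv with rfl | rfl
  · exact h.memU.1 hw
  · exact h.swap.memU.1 (h.U_swap ▸ hw)

/-- E0: the case `u ^ γ ∈ ⟨U, y⟩`. -/
theorem caseE {a γ y : X} (ha : a ∈ A) (aN : a ∈ normalizer (P : Set X))
    (hα : ∀ y ∈ Omg P z, y ≠ z → a * y * a⁻¹ = y * z) (hγ : γ ∈ normalizer (P : Set X))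
    (ey : y = γ * z * γ⁻¹) (hz : y ≠ z)
    (hE : ∃ w ∈ closure ({z, u} : Set X), γ * u * γ⁻¹ = w ∨ γ * u * γ⁻¹ = w * y) :
    ∃ v, (v = u ∨ v = z * u) ∧ P ≤ S ⊓ Cx u ∧ y ∈ Phi S z u v ∧
      (∃ b ∈ normalizer (P : Set X), b * v * b⁻¹ = v ∧ b * z * b⁻¹ = z * y) ∧
      (∀ w ∈ closure ({z, u} : Set X), IsConj z (y * w) → w = 1 ∨ w = z) ∧
      ∃ s ∈ S, s ∉ Cx u ∧ ⁅y, s * y * s⁻¹⁆ = z := by
  have hy : y ∈ Omg P z := ⟨γ, hγ, ey⟩
  have yz : y * z = z * y := h.zc y (h.om_T hy).1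
  have bz : γ * a * γ⁻¹ * z * (γ * a * γ⁻¹)⁻¹ = z * y := by
    have := hα _ (h.om_inv hγ) (h.inv_ne (ey ▸ hz))
    calc _ = γ * (a * (γ⁻¹ * z * γ) * a⁻¹) * γ⁻¹ := by group
      _ = _ := by rw [this, ey]; group
  have bU : ∀ w ∈ closure ({z, u} : Set X),
      γ * a * γ⁻¹ * (γ * w * γ⁻¹) * (γ * a * γ⁻¹)⁻¹ = γ * w * γ⁻¹ := fun w hw => by
    rw [conj_mul, h.cU (h.AT ha) hw]; group
  obtain ⟨w, hw, e⟩ := hE
  obtain ⟨w', hw', e'⟩ : ∃ w' , (w' = u ∨ w' = z * u) ∧ γ * w' * γ⁻¹ = w := by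
    rcases e with e | e
    · exact ⟨u, Or.inl rfl, e⟩
    · refine ⟨z * u, Or.inr rfl, ?_⟩
      rw [← conj_mul, ← ey, e, h.cU (h.om_T hy) hw |>.symm, ← mul_assoc, h.om_sq hy, one_mul]
  have hv : w = u ∨ w = z * u := by
    rcases h.memU.1 hw with e1 | e1 | e1
    · rw [e1, conj_eq_one_iff] at e'
      exact absurd (e' ▸ hw') (by simp [h.u1.symm, h.swap.u1.symm])
    · exact absurd (e1 ▸ e' ▸ isConj_conj γ w').symm (h.nconj hw')
    · exact e1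
  have bw : γ * a * γ⁻¹ * w * (γ * a * γ⁻¹)⁻¹ = w := e' ▸ bU w' (h.hvU hw')
  have aw : a * w * a⁻¹ = w := by rw [h.cU (h.AT ha) hw, mul_inv_cancel_right]
  have ayz : a * (z * y) * a⁻¹ = y := by
    rw [← conj_mul, hα y hy hz, h.cz (h.AS ha), yz, ← mul_assoc, h.zz, one_mul]
  have hΦ : y ∈ Phi S z u w := ⟨h.om_T hy, a * (γ * a * γ⁻¹), mul_mem (mem_Cx'.2 aw) (mem_Cx'.2 bw), z,
    h.zU, by rw [← ayz, ← bz]; group⟩
  have n1 : IsConj (z * w) (z * y * w) := by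
    have := isConj_conj (γ * a * γ⁻¹) (z * w)
    rwa [← conj_mul, bz, bw] at this
  have n2 : IsConj (z * y * w) (y * w) := by
    have := isConj_conj a (z * y * w)
    rwa [← conj_mul, ayz, aw] at this
  have star : ∀ w ∈ closure ({z, u} : Set X), IsConj z (y * w) → w = 1 ∨ w = z := fun t ht c => by
    rcases h.memU' hv ht with e | e | e | e
    · exact Or.inl e
    · exact Or.inr e
    · exact absurd ((e ▸ c).trans (n1.trans n2).symm) (h.nconj (h.hv_z hv))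
    · rw [e, ← mul_assoc, yz] at c
      exact absurd (c.trans n1.symm) (h.nconj (h.hv_z hv))
  refine ⟨w, hv, fun t ht => ⟨h.PS ht, by_contra fun hn => ?_⟩, hΦ,
    ⟨_, mul_mem (mul_mem hγ aN) (inv_mem hγ), bw, bz⟩, star, ?_⟩
  · have h1 : t * w' * t⁻¹ = z * w' := by
      rcases hw' with rfl | rfl
      · exact h.cu (h.PS ht) hn
      · rw [h.czu (h.PS ht) hn, ← mul_assoc, h.zz, one_mul]
    have h2 : γ * t * γ⁻¹ * w * (γ * t * γ⁻¹)⁻¹ = y * w := by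
      rw [← e', ey, conj_mul, conj_mul, ← h1]; group
    rcases h.un' (h.PS (conj_mem_of_mem_normalizer hγ ht)) hw with e | e <;> rw [h2] at e
    · exact h.z1 (conj_eq_one_iff.1 (ey ▸ (by simpa using e : y = 1)))
    · exact hz (mul_right_cancel e)
  obtain ⟨s, hs, hn, h0⟩ := h.phi_ne hv hΦ (h.om_nU hy hz)
  refine ⟨s, hs, hn, (star _ (h.phi_cm hv hΦ hs) ?_).resolve_left h0⟩
  have := (h.om_isConj hy).trans (isConj_conj (s * y * s⁻¹) y)
  rwa [commutatorElement_def, mul_assoc y, mul_assoc y, ← mul_assoc y, h.om_sq hy, one_mul,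
    inv_eq_of_mul_eq_one_right (h.om_sq hy)]

end NF

end CfsgLib.GHB
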