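import Mathlib
import Cfsg.Agent.Lib.GHB.JTb
import Cfsg.Agent.Lib.Transfer.Cocycle

/-! Package JT2: the case `A ≅ ℤ₄ × ℤ₂` (plans/GHB.md, part 3). -/

set_option autoImplicit false

namespace CfsgLib.GHB

open Subgroup CfsgLib.Tech CfsgLib.W2
open scoped commutatorElement

variable {X : Type*} [Group X]

/-- `H ∪ H s` -/
def ext2 (H : Subgroup X) (s : X) (hn : s ∈ normalizer (H : Set X)) (ss : s * s ∈ H) :
    Subgroup X where
  carrier := {g | g ∈ H ∨ g * s⁻¹ ∈ H}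
  one_mem' := Or.inl H.one_mem
  mul_mem' := by
    rintro a b (ha | ha) (hb | hb)
    · exact Or.inl (mul_mem ha hb)
    · exact Or.inr (mul_assoc a b _ ▸ mul_mem ha hb)
    · exact Or.inr (by
        convert mul_mem ha (conj_mem_of_mem_normalizer hn hb) using 1; group)
    · exact Or.inl (by
        convert mul_mem (mul_mem ha (conj_mem_of_mem_normalizer hn hb)) ss using 1; group)
  inv_mem' := by
    rintro a (ha | ha)
    · exact Or.inl (inv_mem ha)
    · exact Or.inr (by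
        convert mul_mem (conj_mem_of_mem_normalizer' hn (inv_mem ha)) (inv_mem ss) using 1; group)

theorem mem_ext2 {H : Subgroup X} {s g : X} {hn : s ∈ normalizer (H : Set X)} {ss : s * s ∈ H} :
    g ∈ ext2 H s hn ss ↔ g ∈ H ∨ g * s⁻¹ ∈ H := Iff.rfl

variable [Finite X] {S A P : Subgroup X} {z u r : X}

namespace NF
variable (h : NF S A P z u r) (h2 : ∀ a ∈ A, a * a = 1 ∨ a * a = z)
include h h2

theorem mulA {a b : X} (ha : a ∈ A) (hb : b ∈ A) (aU : a ∉ closure ({z, u} : Set X))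
    (bU : b ∉ closure ({z, u} : Set X)) : a * b ∈ closure ({z, u} : Set X) :=
  h.invA (mul_mem ha hb) (by
    rw [Commute.mul_mul_mul_comm (h.Ac b hb a ha), (h2 a ha).resolve_left (mt (h.invA ha) aU),
      (h2 b hb).resolve_left (mt (h.invA hb) bU), h.zz])

omit h2 in
theorem rU : r ∉ closure ({z, u} : Set X) := fun e => h.z1 (h.rr ▸ h.sqU e)

theorem ph_A {a t : X} (ha : a ∈ A) (aU : a ∉ closure ({z, u} : Set X)) (ht : t ∈ S ⊓ Cx u) :
    a * t * a⁻¹ = r * t * r⁻¹ := by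
  have := h.cU ht (h.mulA h2 (inv_mem h.rA) ha (fun e => h.rU (inv_mem_iff.1 e)) aU)
  calc _ = r * (r⁻¹ * a * t) * a⁻¹ := by group
    _ = _ := by rw [← this]; group

theorem ph_one {t : X} (ht : t ∈ S ⊓ Cx u) (e : r * t * r⁻¹ = t) : ∀ a ∈ A, t * a = a * t :=
  fun a ha => by
    by_cases aU : a ∈ closure ({z, u} : Set X)
    · exact h.cU ht aU
    · rw [← h.ph_A h2 ha aU ht, mul_inv_eq_iff_eq_mul] at e
      exact e.symm

omit h2 in
theorem ph_mul {t t' w w' : X} (ht' : t' ∈ S ⊓ Cx u) (hw : w ∈ closure ({z, u} : Set X))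
    (e : r * t * r⁻¹ = t * w) (e' : r * t' * r⁻¹ = t' * w') :
    r * (t * t') * r⁻¹ = t * t' * (w * w') := by
  rw [← conj_mul, e, e', mul_assoc, ← mul_assoc w, ← h.cU ht' hw]; group

theorem ph_conj {s t w : X} (hs : s ∈ S) (ht : t ∈ S ⊓ Cx u) (e : r * t * r⁻¹ = t * w) :
    r * (s * t * s⁻¹) * r⁻¹ = s * t * s⁻¹ * (s * w * s⁻¹) := by
  rw [← h.ph_A h2 (h.conjA (inv_mem hs) h.rA) (fun k => h.rU (by
    simpa [mul_assoc] using h.conjU hs k)) ht] at e
  rw [conj_mul, ← e]; group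

theorem L1 {e v : X} (he : e ∈ S ⊓ Cx u) (hv : v = u ∨ v = z * u) (ev : r * e * r⁻¹ = e * v) {c : X}
    (hc : c ∈ S) (cA : ∀ a ∈ A, c * a = a * c) : c ∈ A := by
  by_contra hn
  have n1 : (A.subgroupOf S).Normal := (normal_subgroupOf_iff_le_normalizer h.AS).2 h.An
  obtain ⟨b, hb, bA, b2, bc⟩ := PGroup.exists_central_mod_pow_mem h.syl.pgroup
    (M := centralizer (A.subgroupOf S : Set S)) (N := A.subgroupOf S) fun k =>
      hn (k (x := ⟨c, hc⟩) fun a ha => Subtype.ext (cA _ ha).symm)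
  have hb' : ∀ a ∈ A, (b : X) * a = a * b := fun a ha =>
    (congrArg Subtype.val (hb ⟨a, h.AS ha⟩ ha)).symm
  have bb : (b : X) * b ∈ A := by simpa [pow_two] using mem_subgroupOf.1 b2
  have bU : (b : X) * b ∉ closure ({z, u} : Set X) := fun k => bA (h.alp _ b.2 hb' (by
    rw [← h.sqU k]; simp [pow_succ, mul_assoc]))
  have hm : (b : X) * e * (b : X)⁻¹ * e⁻¹ ∈ A := mem_subgroupOf.1 (bc ⟨e, he.1⟩)
  obtain ⟨w, -, e1, e2⟩ := h.cmA he bb
  rw [h.ph_A h2 bb bU he, ev, mul_right_inj] at e2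
  obtain ⟨m, em⟩ : ∃ m, m = ((b : X) * e * (b : X)⁻¹ * e⁻¹)⁻¹ := ⟨_, rfl⟩
  have mA : m ∈ A := em ▸ inv_mem hm
  have e3 : e * b * e⁻¹ = m * b := by rw [em]; group
  rw [← conj_mul, e3, Commute.mul_mul_mul_comm (hb' m mA), ← e2, h.Ac _ (mul_mem mA mA) _ bb,
    mul_right_inj] at e1
  rcases h2 m mA with k | k <;> rw [k] at e1 <;> rw [← e1] at hv
  · exact hv.elim h.u1.symm h.swap.u1.symm
  · exact hv.elim h.ne h.swap.ne

theorem L2 {e₁ e₂ : X} (t1 : e₁ ∈ S ⊓ Cx u) (t2 : e₂ ∈ S ⊓ Cx u) (s1 : e₁ * e₁ = 1) (s2 : e₂ * e₂ = 1)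
    (c : e₁ * e₂ = e₂ * e₁) (p1 : r * e₁ * r⁻¹ = e₁ * u) (p2 : r * e₂ * r⁻¹ = e₂ * (z * u)) :
    False := by
  have key : ∀ {e e₀ v : X}, e ∈ S ⊓ Cx u → e₀ ∈ S ⊓ Cx u → e * e = 1 → e₀ * e₀ = 1 →
      (v = u ∨ v = z * u) → r * e * r⁻¹ = e * v → r * e₀ * r⁻¹ = e₀ * v →
      e * e₀ ∈ closure ({z, u} : Set X) := fun {e e₀ v} he he₀ ee ee₀ hv p p₀ => by
    have hA := h.L1 h2 t1 (Or.inl rfl) p1 (mul_mem he he₀).1 (h.ph_one h2 (mul_mem he he₀) (by
      rw [h.ph_mul he₀ (h.hvU hv) p p₀, h.sqU (h.hvU hv), mul_one]))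
    by_contra hU
    obtain ⟨w, -, e1, e2⟩ := h.cmA he₀ hA
    rw [h.ph_A h2 hA hU he₀, p₀, mul_right_inj] at e2
    have e3 : e * e₀ * (e₀ * (e * e₀) * e₀⁻¹) = 1 := by
      rw [mul_assoc e₀, mul_inv_cancel_right, mul_assoc, ← mul_assoc e₀, ee₀, one_mul, ee]
    rw [e1, ← mul_assoc, (h2 _ hA).resolve_left (mt (h.invA hA) hU), ← e2] at e3
    exact (h.hv_z hv).elim (e3 ▸ h.u1.symm) (e3 ▸ h.swap.u1.symm)
  have key' : ∀ {e v : X}, e ∈ S ⊓ Cx u → e * e = 1 → (v = u ∨ v = z * u) → r * e * r⁻¹ = e * v →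
      ∃ w ∈ closure ({z, u} : Set X), e = w * e₁ ∨ e = w * e₂ := fun {e v} he ee hv p => by
    rcases hv with rfl | rfl
    · exact ⟨_, key he t1 ee s1 (Or.inl rfl) p p1, Or.inl (by rw [mul_assoc, s1, mul_one])⟩
    · exact ⟨_, key he t2 ee s2 (Or.inr rfl) p p2, Or.inr (by rw [mul_assoc, s2, mul_one])⟩
  have hT : ∀ f ∈ {f | ∃ w ∈ closure ({z, u} : Set X), f = w * e₁ ∨ f = w * e₂}, f ∈ S ⊓ Cx u := by
    rintro _ ⟨w, hw, rfl | rfl⟩
    exacts [mul_mem (h.UT hw) t1, mul_mem (h.UT hw) t2]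
  have := h.sub_U hT ?_ ?_ ?_ (f := e₁) ⟨1, one_mem _, Or.inl (one_mul _).symm⟩
  · rw [h.cU (h.AT h.rA) this, mul_inv_cancel_right] at p1
    exact h.u1 (by simpa using p1)
  · rintro _ ⟨w, hw, rfl | rfl⟩
    · rw [Commute.mul_mul_mul_comm (h.cU t1 hw), h.sqU hw, s1, one_mul]
    · rw [Commute.mul_mul_mul_comm (h.cU t2 hw), h.sqU hw, s2, one_mul]
  · rintro _ ⟨w, hw, e⟩ f hf
    have c0 : Commute w f := (h.cU (hT f hf) hw).symm
    obtain ⟨w', hw', e'⟩ := hf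
    rcases e with rfl | rfl <;> refine c0.mul_left ?_ <;> rcases e' with rfl | rfl
    exacts [Commute.mul_right (h.cU t1 hw') rfl, Commute.mul_right (h.cU t1 hw') c,
      Commute.mul_right (h.cU t2 hw') c.symm, Commute.mul_right (h.cU t2 hw') rfl]
  · rintro s hs _ ⟨w, hw, rfl | rfl⟩ <;> rw [← conj_mul]
    · obtain ⟨w', hw', e⟩ := key' (h.conj_T hs t1) (by rw [conj_mul, s1]; simp)
        (h.hv_conj (Or.inl rfl) hs) (h.ph_conj h2 hs t1 p1)
      exact ⟨_, mul_mem (h.conjU hs hw) hw', 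
        e.imp (fun k => by rw [k]; group) fun k => by rw [k]; group⟩
    · obtain ⟨w', hw', e⟩ := key' (h.conj_T hs t2) (by rw [conj_mul, s2]; simp)
        (h.hv_conj (Or.inr rfl) hs) (h.ph_conj h2 hs t2 p2)
      exact ⟨_, mul_mem (h.conjU hs hw) hw', 
        e.imp (fun k => by rw [k]; group) fun k => by rw [k]; group⟩

theorem two_beta (AN : A ≤ normalizer (P : Set X)) {a y : X} (ha : a ∈ A)
    (hy : y ∈ Omg P z) (hz : y ≠ z) (e : a * y * a⁻¹ = y * u) : False := by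
  have yT := h.om_T hy
  rw [h.ph_A h2 ha (fun k => h.u1 (by
    rwa [← h.cU yT k, mul_inv_cancel_right, left_eq_mul] at e)) yT] at e
  have p : ∀ w ∈ Omg P z, w ≠ z → r * w * r⁻¹ = w * u := fun w hw wz => by
    obtain ⟨t, ht, -, et⟩ := h.cmA (h.om_T hw) h.rA
    have c := h.om_cent hw (h.om_P hy)
    rcases h.memU.1 ht with k | k | k | k <;> rw [k] at et
    · exact absurd (h.invC (h.om_T hw).1 (h.ph_one h2 (h.om_T hw) (by rw [et, mul_one]))
        (h.om_sq hw)) (h.om_nU hw wz)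
    · exact (h.L2 h2 yT (mul_mem (h.om_T hw) yT) (h.om_sq hy)
        (by rw [Commute.mul_mul_mul_comm c, h.om_sq hw, h.om_sq hy, one_mul])
        (by rw [← mul_assoc, c]) e (h.ph_mul yT h.zU et e)).elim
    · exact et
    · exact (h.L2 h2 yT (h.om_T hw) (h.om_sq hy) (h.om_sq hw) c e et).elim
  have q : ∀ w ∈ Omg P z, w ≠ z → ∀ w' ∈ Omg P z, w' ≠ z → w * w' ∈ closure ({z, u} : Set X) :=
    fun w hw wz w' hw' wz' => by
      have hT := mul_mem (h.om_T hw) (h.om_T hw')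
      refine h.invC hT.1 (h.ph_one h2 hT ?_) ?_
      · rw [h.ph_mul (h.om_T hw') h.uU (p w hw wz) (p w' hw' wz'), h.uu, mul_one]
      · rw [Commute.mul_mul_mul_comm (h.om_cent hw (h.om_P hw')), h.om_sq hw, h.om_sq hw', one_mul]
  have ou : ∀ w ∈ Omg P z, w ≠ z → w * u ∈ Omg P z := fun w hw wz =>
    p w hw wz ▸ h.om_conj (AN h.rA) hw
  obtain ⟨γ, hγ, ey⟩ := id hy
  have yU : ∀ t ∈ closure ({z, u} : Set X), y * t ≠ z := fun t ht k =>
    h.om_nU hy hz ((mul_mem_cancel_right ht).1 (k ▸ h.zU))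
  have n1 : y * (z * u) ∉ Omg P z := fun k => by
    have ne : ∀ t, t ≠ 1 → γ⁻¹ * (y * t) * γ⁻¹⁻¹ ≠ z := fun t t1 k => t1 (by
      have : y * t = y := by nth_rw 2 [ey]; rw [← k]; group
      simpa using this)
    have := q _ (h.om_conj (inv_mem hγ) (ou y hy hz)) (ne u h.u1) _ (h.om_conj (inv_mem hγ) k)
      (ne _ h.swap.u1)
    rw [conj_mul, Commute.mul_mul_mul_comm (h.cU yT h.uU).symm, h.om_sq hy, one_mul, h.zu,
      ← mul_assoc u, h.uu, one_mul, inv_inv] at this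
    exact h.om_nU (h.om_inv hγ) (h.inv_ne (ey ▸ hz)) this
  have all : ∀ w ∈ Omg P z, w ≠ y → w = z ∨ w = y * u := fun w hw wy => by
    refine or_iff_not_imp_left.2 fun wz => ?_
    have ew : w = y * (y * w) := by rw [← mul_assoc, h.om_sq hy, one_mul]
    rcases h.memU.1 (q y hy hz w hw wz) with k | k | k | k <;> rw [k] at ew
    · exact absurd (by simpa using ew) wy
    · exact absurd (mul_assoc y z u ▸ ew ▸ ou w hw wz) n1
    · exact ew
    · exact absurd (ew ▸ hw) n1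
  have inj : ∀ {a b : X}, γ * a * γ⁻¹ = γ * b * γ⁻¹ → a = b := fun k => by simpa using k
  have yz := h.zc y yT.1
  have fix : γ * (z * u) * γ⁻¹ = z * u := by
    have e0 : z * u = z * (y * (y * u)) := by rw [← mul_assoc y, h.om_sq hy, one_mul]
    have k1 := all _ (h.om_conj hγ hy) fun k => hz (inj (k.trans ey))
    have k2 := all _ (h.om_conj hγ (ou y hy hz)) fun k => yU u h.uU (inj (k.trans ey))
    have k3 : γ * y * γ⁻¹ ≠ γ * (y * u) * γ⁻¹ := fun k => h.u1 (by simpa using inj k)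
    nth_rw 1 [e0]
    rw [← conj_mul, ← conj_mul, ← ey]
    rcases k1 with k1 | k1 <;> rcases k2 with k2 | k2 <;> rw [k1, k2] at k3 ⊢
    · exact absurd rfl k3
    · rw [← mul_assoc, yz, mul_assoc, ← e0]
    · rw [← mul_assoc, ← mul_assoc, h.om_sq hy, one_mul, h.zu]
    · exact absurd rfl k3
  have nc : ¬ IsConj y (y * (z * u)) := fun k => h.nu (by
    have := ((h.om_isConj hy).trans k).trans (isConj_conj γ⁻¹ _)
    rw [← fix, ey, conj_mul, ← mul_assoc z, h.zz, one_mul] at this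
    simpa [mul_assoc] using this)
  refine h.tstar (Or.inr rfl) (Or.inr rfl) ⟨yT, γ, mem_Cx'.2 fix, z, h.zU, ey⟩ (h.om_nU hy hz)
    (fun k => nc (k.trans ?_)) nc
  have := isConj_conj r (y * z)
  rwa [← conj_mul, e, h.cz (h.AS h.rA), mul_assoc, ← h.zu] at this

theorem two_E {a γ y : X} (ha : a ∈ A) (aN : a ∈ normalizer (P : Set X))
    (hα : ∀ y ∈ Omg P z, y ≠ z → a * y * a⁻¹ = y * z) (hγ : γ ∈ normalizer (P : Set X))
    (ey : y = γ * z * γ⁻¹) (hz : y ≠ z) (py : r * y * r⁻¹ = y * z)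
    (hE : ∃ w ∈ closure ({z, u} : Set X), γ * u * γ⁻¹ = w ∨ γ * u * γ⁻¹ = w * y) : False := by
  obtain ⟨v, hv, -, hΦ, -, star, s, hs, hn, e⟩ := h.caseE ha aN hα hγ ey hz hE
  have hy : y ∈ Omg P z := ⟨γ, hγ, ey⟩
  have yT := h.om_T hy
  have yy := h.om_sq hy
  have yi := inv_eq_of_mul_eq_one_right yy
  have pc : ∀ g ∈ S, r * (g * y * g⁻¹) * r⁻¹ = g * y * g⁻¹ * z := fun g hg => by
    rw [h.ph_conj h2 hg yT py, h.cz hg]
  have pA : ∀ g ∈ S, ∀ b ∈ A, y * (g * y * g⁻¹) * b = b * (y * (g * y * g⁻¹)) := fun g hg =>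
    h.ph_one h2 (mul_mem yT (h.conj_T hg yT)) (by
      rw [h.ph_mul (h.conj_T hg yT) h.zU py (pc g hg), h.zz, mul_one])
  obtain ⟨d, ed⟩ : ∃ d, d = y * (s * y * s⁻¹) := ⟨_, rfl⟩
  have sy : s * y * s⁻¹ = y * d := by rw [ed, ← mul_assoc, yy, one_mul]
  have dd : d * d = z := by
    rw [← e, ed, commutatorElement_def, yi, conj_inv, yi]; group
  have dA : d ∈ A := h.alp d (ed ▸ (mul_mem yT (h.conj_T hs yT)).1) (ed ▸ pA s hs) (by
    rw [← h.zz, ← dd]; simp [pow_succ, mul_assoc])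
  have dU : d ∉ closure ({z, u} : Set X) := fun k => h.z1 (dd ▸ h.sqU k)
  have zd := h.zc d (h.AS dA)
  have ty : ∀ t ∈ S ⊓ Cx u, t * y * t⁻¹ = y ∨ t * y * t⁻¹ = y * z := fun t ht => by
    have hU := h.invC (mul_mem yT (h.conj_T ht.1 yT)).1 (pA t ht.1) (by
      rw [Commute.mul_mul_mul_comm (h.kc v hv _ (h.phi_conj hv hΦ ht) _ hΦ), yy, conj_mul, yy]; simp)
    have e1 : t * y * t⁻¹ = y * (y * (t * y * t⁻¹)) := by rw [← mul_assoc y, yy, one_mul]
    rcases star _ hU (e1 ▸ (h.om_isConj hy).trans (isConj_conj t y)) with k | k <;> rw [k] at e1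
    exacts [Or.inl (by rw [e1, mul_one]), Or.inr e1]
  have ty' : ∀ t ∈ S ⊓ Cx u, t * (y * d) * t⁻¹ = y * d ∨ t * (y * d) * t⁻¹ = y * d * z :=
    fun t ht => by
      have e1 : t * (y * d) * t⁻¹ = s * (s⁻¹ * t * s⁻¹⁻¹ * y * (s⁻¹ * t * s⁻¹⁻¹)⁻¹) * s⁻¹ := by
        rw [← sy]; group
      rcases ty _ (h.conj_T (inv_mem hs) ht) with k | k <;> rw [k] at e1
      · exact Or.inl (by rw [e1, sy])
      · exact Or.inr (by rw [e1, ← conj_mul, sy, h.cz hs])
  have yA : ∀ b ∈ A, b * y = y * b → b ∈ closure ({z, u} : Set X) := fun b hb k => by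
    by_contra bU
    rw [← h.ph_A h2 hb bU yT, k, mul_inv_cancel_right] at py
    exact h.z1 (by simpa using py)
  have CA : ∀ c ∈ S, (∀ b ∈ A, c * b = b * c) → c ∈ A := by
    have key : ∀ c ∈ S, (∀ b ∈ A, c * b = b * c) → c * y = y * c → c ∈ A := fun c hc cA cy => by
      by_contra cn
      obtain ⟨k, hk⟩ := h.syl.pgroup ⟨c, hc⟩
      obtain ⟨j, j1, j2⟩ := PGroup.exists_pow_not_mem_pow_mem (p := 2) (k := k)
        (by rw [show c ^ 2 ^ k = 1 from congrArg Subtype.val hk]; exact one_mem _) cn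
      have := h.sqU (yA _ j2 ((Commute.pow_left cy _).pow_left _))
      exact j1 (h.alp _ (pow_mem hc _) (fun b hb => Commute.pow_left (cA b hb) _)
        (by rw [← this, ← pow_add]))
    intro c hc cA
    rcases ty c ⟨hc, mem_Cx.2 (cA u h.uA)⟩ with k | k
    · exact key c hc cA (mul_inv_eq_iff_eq_mul.1 k)
    · refine (mul_mem_cancel_left h.rA).1 (key _ (mul_mem (h.AS h.rA) hc) (fun b hb =>
        Commute.mul_left (h.Ac r h.rA b hb) (cA b hb)) (mul_inv_eq_iff_eq_mul.1 ?_))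
      calc _ = r * (c * y * c⁻¹) * r⁻¹ := by group
        _ = y := by rw [k, ← conj_mul, py, h.cz (h.AS h.rA), mul_assoc, h.zz, mul_one]
  have td : ∀ t ∈ S ⊓ Cx u, t * d * t⁻¹ = d ∨ t * d * t⁻¹ = d * z := fun t ht => by
    have e1 : t * d * t⁻¹ = (t * y * t⁻¹)⁻¹ * (t * (y * d) * t⁻¹) := by group
    have zi := inv_eq_of_mul_eq_one_right h.zz
    rcases ty t ht with k | k <;> rcases ty' t ht with k' | k' <;> rw [k, k'] at e1
    · exact Or.inl (by rw [e1]; group)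
    · exact Or.inr (by rw [e1]; group)
    · exact Or.inr (by rw [e1, mul_inv_rev, zi, zd]; group)
    · exact Or.inl (by rw [e1, mul_assoc y d, zd]; group)
  have TA : ∀ t ∈ S ⊓ Cx u, t ∈ A ∨ t * y⁻¹ ∈ A := fun t ht => by
    obtain ⟨w, -, e1, e2⟩ := h.cmA ht dA
    rw [h.ph_A h2 dA dU ht] at e2
    rcases td t ht with k | k <;> rw [k] at e1
    · rw [left_eq_mul.1 e1, mul_one] at e2
      exact Or.inl (CA t ht.1 (h.ph_one h2 ht e2))
    · rw [← mul_left_cancel e1] at e2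
      rw [yi]
      exact Or.inr (CA _ (mul_mem ht yT).1 (h.ph_one h2 (mul_mem ht yT) (by
        rw [h.ph_mul yT h.zU e2 py, h.zz, mul_one])))
  have cT : ∀ g ∈ S, g ∉ Cx u → ∀ t ∈ S ⊓ Cx u, g * t = t * g → t ∈ A := fun g hg gn t ht c => by
    refine (TA t ht).resolve_right fun hb => dU ?_
    have e1 : g * y * g⁻¹ = g * s⁻¹ * (y * d) * (g * s⁻¹)⁻¹ := by rw [← sy]; group
    have e2 : (t * y⁻¹)⁻¹ * (g * (t * y⁻¹) * g⁻¹) = y * (g * y * g⁻¹)⁻¹ := by
      rw [← conj_mul, c]; group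
    have e3 : (t * y⁻¹)⁻¹ * (g * (t * y⁻¹) * g⁻¹) ∈ closure ({z, u} : Set X) := by
      by_cases bU : t * y⁻¹ ∈ closure ({z, u} : Set X)
      · exact mul_mem (inv_mem bU) (h.conjU hg bU)
      · exact h.mulA h2 (inv_mem hb) (h.conjA hg hb) (fun k => bU (inv_mem_iff.1 k)) fun k => bU (by
          simpa [mul_assoc] using h.conjU (inv_mem hg) k)
    have e4 := h.conjU (inv_mem yT.1) (inv_mem (e2 ▸ e3))
    rcases ty' _ (h.mul_T hg (inv_mem hs) gn fun k => hn (inv_mem_iff.1 k)) with k | k <;>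
      rw [e1, k] at e4
    · simpa [mul_assoc] using e4
    · exact (mul_mem_cancel_right h.zU).1 (by simpa [mul_assoc] using e4)
  have mz : ∀ {g : X}, g ∈ zpowers z ↔ g = 1 ∨ g = z := fun {g} => by
    classical
    rw [mem_zpowers_iff_mem_range_orderOf, ord_two h.zz h.z1]
    simp [Finset.range_add_one, or_comm]
  have nz : ∀ g ∈ S, g ∈ normalizer (zpowers z : Set X) := fun g hg =>
    mem_normalizer_of_forall fun t ht => by rcases mz.1 ht with k | k <;> simp [k, h.cz hg]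
  set Z := ext2 (zpowers z) d (nz d (h.AS dA)) (dd ▸ mem_zpowers z) with hZ
  have mZ : ∀ {g : X}, g ∈ Z ↔ g = 1 ∨ g = z ∨ g = d ∨ g = d * z := fun {g} => by
    rw [hZ, mem_ext2, mz, mz, mul_inv_eq_one, mul_inv_eq_iff_eq_mul, zd, or_assoc]
  have zZ : z ∈ Z := mZ.2 (by simp)
  have dZ : d ∈ Z := mZ.2 (by simp)
  have nZ : ∀ g ∈ S, g * d * g⁻¹ ∈ Z → g ∈ normalizer (Z : Set X) := fun g hg k =>
    mem_normalizer_of_forall fun t ht => by
      rcases mZ.1 ht with e | e | e | e <;> rw [e]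
      exacts [by simp, by rw [h.cz hg]; exact zZ, k, by rw [← conj_mul, h.cz hg]; exact mul_mem k zZ]
  have nT : ∀ t ∈ S ⊓ Cx u, t ∈ normalizer (Z : Set X) := fun t ht =>
    nZ t ht.1 (mZ.2 (Or.inr (Or.inr (td t ht))))
  have uZ : u ∉ Z := fun k => by
    rcases mZ.1 k with e | e | e | e
    exacts [h.u1 e, h.ne e.symm, dU (e ▸ h.uU), dU ((mul_mem_cancel_right h.zU).1 (e ▸ h.uU))]
  have ZA : Z ≤ A := fun g hg => by
    rcases mZ.1 hg with e | e | e | e <;> rw [e]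
    exacts [one_mem _, h.UA h.zU, dA, mul_mem dA (h.UA h.zU)]
  have AZ : ∀ b ∈ A, b ∈ Z ∨ b * u ∈ Z := by
    have key : ∀ b ∈ closure ({z, u} : Set X), b ∈ Z ∨ b * u ∈ Z := fun b hb => by
      rcases h.memU.1 hb with e | e | e | e <;> rw [e]
      exacts [Or.inl (one_mem _), Or.inl zZ, Or.inr (h.uu ▸ one_mem _),
        Or.inr (by rw [mul_assoc, h.uu, mul_one]; exact zZ)]
    intro b hb
    by_cases bU : b ∈ closure ({z, u} : Set X)
    · exact key b bU
    · exact (key _ (h.mulA h2 dA hb dU bU)).imp (mul_mem_cancel_left dZ).1 fun k =>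
        (mul_mem_cancel_left dZ).1 (mul_assoc d b u ▸ k)
  have ssy : s * s * y * (s * s)⁻¹ = y * (d * (s * d * s⁻¹)) := by
    calc _ = s * (s * y * s⁻¹) * s⁻¹ := by group
      _ = _ := by rw [sy, ← conj_mul, sy, mul_assoc]
  have sd : s * d * s⁻¹ ∈ Z := by
    refine (mul_mem_cancel_left dZ).1 ?_
    rcases ty _ (h.sq_T hs) with k | k <;> rw [ssy] at k
    exacts [mul_eq_left.1 k ▸ one_mem _, mul_left_cancel k ▸ zZ]
  have ss : s * s ∈ Z := by
    have sA := cT s hs hn _ (h.sq_T hs) (mul_assoc _ _ _).symm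
    refine (AZ _ sA).resolve_right fun k => ?_
    have e1 : s * (s * s * u) * s⁻¹ = s * s * u * z := by
      rw [← conj_mul, h.cu hs hn, h.zu]; group
    have e2 : s * d * s⁻¹ = d * z ∧ s * s ∉ closure ({z, u} : Set X) := by
      rcases mZ.1 k with e | e | e | e <;> rw [e] at e1
      · exact absurd (by simpa using e1.symm) h.z1
      · exact absurd (by rwa [h.cz hs, h.zz] at e1) h.z1
      · exact ⟨e1, fun k => dU (e ▸ mul_mem k h.uU)⟩
      · rw [← conj_mul, h.cz hs, mul_left_inj] at e1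
        exact ⟨e1, fun k => dU ((mul_mem_cancel_right h.zU).1 (e ▸ mul_mem k h.uU))⟩
    rw [h.ph_A h2 sA e2.2 yT, py, e2.1, ← mul_assoc d, dd, h.zz, mul_right_inj] at ssy
    exact h.z1 ssy
  set D := ext2 Z y (nT y yT) (yy ▸ one_mem _) with hD
  have DT : D ≤ S ⊓ Cx u := fun g hg => by
    rcases mem_ext2.1 hg with k | k
    exacts [h.AT (ZA k), (mul_mem_cancel_right (inv_mem yT)).1 (h.AT (ZA k))]
  have sD : s ∈ normalizer (D : Set X) := mem_normalizer_of_forall fun t ht => by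
    rcases mem_ext2.1 ht with k | k
    · exact Or.inl (conj_mem_of_mem_normalizer (nZ s hs sd) k)
    · refine Or.inr ?_
      have := mul_mem (conj_mem_of_mem_normalizer (nZ s hs sd) k)
        (conj_mem_of_mem_normalizer (nT y yT) dZ)
      convert this using 1
      rw [← sy]; group
  have uD : u ∉ D := by
    rintro (k | k)
    · exact uZ k
    · have := inv_mem_iff.1 ((mul_mem_cancel_left h.uA).1 (ZA k))
      exact h.om_nU hy hz (h.invA this yy)
  have TD : ∀ t ∈ S ⊓ Cx u, t ∈ D ∨ t * u ∈ D := fun t ht => by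
    rcases TA t ht with k | k
    · exact (AZ t k).imp Or.inl Or.inl
    · refine (AZ _ k).imp Or.inr fun k' => Or.inr ?_
      rwa [mul_assoc, ← h.cU (inv_mem yT) h.uU, ← mul_assoc]
  obtain ⟨g, g1, g2⟩ := Transfer.thompson_transfer_extremal (H := S) h.idx
    (Q := ext2 D s sD (Or.inl ss)) (R := S ⊓ Cx u) (by
      have := h.syl.not_dvd
      rwa [relIndex_top_right] at this) (relIndex_eq_two_iff.2 ⟨u, h.uS, fun b hb => by
        have k1 : b * u ∈ ext2 D s sD (Or.inl ss) ∨ b ∈ ext2 D s sD (Or.inl ss) := by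
          by_cases bT : b ∈ Cx u
          · exact (TD b ⟨hb, bT⟩).symm.imp Or.inl Or.inl
          · have hn' : s⁻¹ ∉ Cx u := fun k => hn (inv_mem_iff.1 k)
            refine (TD _ (h.mul_T hb (inv_mem hs) bT hn')).symm.imp (fun k => Or.inr ?_) Or.inr
            have := mul_mem k (show z ∈ D from Or.inl zZ)
            rw [mul_assoc _ u, ← h.zu, ← h.cu hs hn] at this
            convert this using 1; group
        have k2 : u ∉ ext2 D s sD (Or.inl ss) := by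
          rintro (k | k)
          · exact uD k
          · exact hn (inv_mem_iff.1 ((mul_mem_cancel_left (mem_Cx.2 rfl)).1 (mem_inf.1 (DT k)).2))
        rcases k1 with k | k
        exacts [Or.inl ⟨k, fun k' => k2 ((mul_mem_cancel_left k').1 k)⟩,
          Or.inr ⟨k, fun k' => k2 ((mul_mem_cancel_left k).1 k')⟩]⟩) h.uu
    (h.syl.pgroup.to_le inf_le_left) inf_le_right
  have cu : IsConj (g⁻¹ * u * g) u := isConj_iff.2 ⟨g, by group⟩
  have uu : g⁻¹ * u * g * (g⁻¹ * u * g) = 1 := by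
    rw [show g⁻¹ * u * g * (g⁻¹ * u * g) = g⁻¹ * (u * u) * g by group, h.uu]; simp
  have cm : ∀ t ∈ S ⊓ Cx u, g⁻¹ * u * g * (g⁻¹ * t * g) = g⁻¹ * t * g * (g⁻¹ * u * g) :=
    fun t ht => by
      calc _ = g⁻¹ * (u * t) * g := by group
        _ = _ := by rw [← mem_Cx.1 ht.2]; group
  generalize g⁻¹ * u * g = q at g1 cu uu cm
  rcases g1 with (k | k) | k
  · rcases h.memU.1 (h.invA (ZA k) uu) with e | e | e | e <;> rw [e] at k cu
    exacts [h.u1 (isConj_one_right.1 cu), h.nu cu, uZ k, uZ ((mul_mem_cancel_left zZ).1 k)]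
  · refine h.nu (IsConj.trans ?_ cu)
    have c1 : IsConj z (y * z) := (h.om_isConj hy).trans (py ▸ isConj_conj r y)
    have c2 : IsConj z (y * d) := (h.om_isConj hy).trans (sy ▸ isConj_conj s y)
    have c3 := (c1.trans (isConj_conj s _)).trans (isConj_conj y⁻¹ _)
    rw [← conj_mul (b := s), sy, h.cz hs] at c3
    rcases mZ.1 k with e | e | e | e <;> rw [mul_inv_eq_iff_eq_mul] at e <;> rw [e]
    · simpa using h.om_isConj hy
    · rwa [← h.zc y yT.1]
    · simpa [mul_assoc] using c2.trans (isConj_conj d _)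
    · simpa [mul_assoc] using c3
  · have qS : q ∈ S := (mul_mem_cancel_right (inv_mem hs)).1 (DT k).1
    have qT : q ∉ Cx u := fun k' =>
      hn (inv_mem_iff.1 ((mul_mem_cancel_left k').1 (mem_inf.1 (DT k)).2))
    have key : ∀ p ∈ S, q * p = p * q → p ∈ A ∨ p * q ∈ A := fun p hp c => by
      by_cases pT : p ∈ Cx u
      · exact Or.inl (cT q qS qT p ⟨hp, pT⟩ c)
      · exact Or.inr (cT q qS qT _ (h.mul_T hp qS pT qT) (by rw [← mul_assoc, c]))
    have c : Commute (g⁻¹ * r * g) (g⁻¹ * y * g) := by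
      have a1 : Commute q _ := cm r (h.AT h.rA)
      have a2 : Commute q _ := cm y yT
      have qi : ∀ p, p = p * q * q := fun p => by rw [mul_assoc, uu, mul_one]
      rcases key _ (g2 r (h.AT h.rA)) a1 with k1 | k1 <;> rcases key _ (g2 y yT) a2 with k2 | k2
      · exact h.Ac _ k1 _ k2
      · rw [qi (g⁻¹ * y * g)]; exact Commute.mul_right (h.Ac _ k1 _ k2) a1.symm
      · rw [qi (g⁻¹ * r * g)]; exact Commute.mul_left (h.Ac _ k1 _ k2) a2
      · rw [qi (g⁻¹ * r * g), qi (g⁻¹ * y * g)]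
        refine Commute.mul_left (Commute.mul_right (h.Ac _ k1 _ k2) ?_) ?_
        · exact a1.symm.mul_left (Commute.refl q)
        · exact (a2.mul_right (Commute.refl q)).mul_right (Commute.refl q)
    have : r * y = y * r := by simpa [← mul_assoc] using (c.conj g).eq
    rw [this, mul_inv_cancel_right] at py
    exact h.z1 (by simpa using py)

end NF

theorem NF.two (h : NF S A P z u r) (h2 : ∀ a ∈ A, a * a = 1 ∨ a * a = z) : False := by
  rcases h.alpha_or_beta with ⟨a, ha, aN, hα⟩ | ⟨AN, -, a, ha, y, hy, hz, e | e⟩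
  · obtain ⟨y, ⟨γ, hγ, ey⟩, hz⟩ := h.mv
    have hy : y ∈ Omg P z := ⟨γ, hγ, ey⟩
    have yT := h.om_T hy
    have py := (hα y hy hz).1
    rw [h.ph_A h2 ha (fun k => h.z1 (by
      rwa [← h.cU yT k, mul_inv_cancel_right, left_eq_mul] at py)) yT] at py
    by_cases hE : ∃ w ∈ closure ({z, u} : Set X), γ * u * γ⁻¹ = w ∨ γ * u * γ⁻¹ = w * y
    · exact h.two_E h2 ha aN (fun y hy hz => (hα y hy hz).1) hγ ey hz py hE
    push Not at hE
    have vT := h.conjU_T hγ (ey ▸ hz) h.uU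
    have vv : γ * u * γ⁻¹ * (γ * u * γ⁻¹) = 1 := by rw [conj_mul, h.uu]; simp
    have c : y * (γ * u * γ⁻¹) = γ * u * γ⁻¹ * y := by rw [ey, conj_mul, conj_mul, h.zu]
    generalize γ * u * γ⁻¹ = v at hE vT vv c
    have vy : v * y * (v * y) = 1 := by
      rw [Commute.mul_mul_mul_comm c, vv, h.om_sq hy, one_mul]
    obtain ⟨t, ht, -, et⟩ := h.cmA vT h.rA
    have et' := h.ph_mul yT ht et py
    rcases h.memU.1 ht with k | k | k | k <;> rw [k] at et et'
    · exact (hE _ (h.invC vT.1 (h.ph_one h2 vT (by rw [et, mul_one])) vv)).1 rfl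
    · refine (hE _ (h.invC (mul_mem vT yT).1 (h.ph_one h2 (mul_mem vT yT) ?_) vy)).2 ?_
      · rw [et', h.zz, mul_one]
      · rw [mul_assoc, h.om_sq hy, mul_one]
    · exact h.L2 h2 vT (mul_mem vT yT) vv vy (by rw [mul_assoc, c]) et (h.zu ▸ et')
    · exact h.L2 h2 (mul_mem vT yT) vT vy vv (by rw [mul_assoc, c]) (by
        rw [et', mul_assoc z, ← h.zu, ← mul_assoc z, h.zz, one_mul]) et
  · exact h.two_beta h2 AN ha hy hz e
  · exact h.swap.two_beta h2 AN ha hy hz e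

end CfsgLib.GHB
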