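import Mathlib
import Cfsg.Agent.Lib.GHB.JTb

/-! Package JT3: the case `A ≅ ℤ₄ × ℤ₄` (plans/GHB.md, part 3). -/

set_option autoImplicit false

namespace CfsgLib.GHB

open Subgroup CfsgLib.Tech CfsgLib.W2
open scoped commutatorElement

variable {X : Type*} [Group X] [Finite X] {S A P : Subgroup X} {z u r : X}

namespace NF
variable (h : NF S A P z u r)
include h

theorem conj_mul_A {t a b w w' : X} (ht : t ∈ S ⊓ Cx u) (ha : a ∈ A)
    (hw : w' ∈ closure ({z, u} : Set X)) (e : a * t * a⁻¹ = t * w) (e' : b * t * b⁻¹ = t * w') :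
    a * b * t * (a * b)⁻¹ = t * (w * w') := by
  calc _ = a * (b * t * b⁻¹) * a⁻¹ := by group
    _ = _ := by rw [e', ← conj_mul, e, h.cU (h.AT ha) hw]; group

theorem sq_ne_z (hT : P ≤ S ⊓ Cx u) {a : X} (ha : a ∈ P) : a * a ≠ z := fun e => by
  obtain ⟨_, ⟨g, hg, rfl⟩, hz⟩ := h.mv
  have := h.sq_mem (hT (conj_mem_of_mem_normalizer hg ha)) (by
    rw [conj_mul, e, h.om_sq ⟨g, hg, rfl⟩])
  rw [conj_mul, e] at this
  exact h.om_nU ⟨g, hg, rfl⟩ hz this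

variable {x : X} (hx : x ∈ A) (xx : x * x = u)
include hx xx

theorem rx_sq : r * x * (r * x) = z * u := by
  rw [mul_assoc, ← mul_assoc x, h.Ac x hx r h.rA, mul_assoc, xx, ← mul_assoc, h.rr]

/-- either an element of order 4 of `A` centralises `t` or `t U` lies in the `A`-class of `t` -/
theorem orb {t : X} (ht : t ∈ S ⊓ Cx u) : (∃ a ∈ A, a * a ≠ 1 ∧ a * t = t * a) ∨
    ∀ w ∈ closure ({z, u} : Set X), ∃ a ∈ A, a * t * a⁻¹ = t * w := by
  obtain ⟨w1, hw1, -, e1⟩ := h.cmA ht h.rA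
  obtain ⟨w2, hw2, -, e2⟩ := h.cmA ht hx
  have e3 := h.conj_mul_A ht h.rA hw2 e1 e2
  have hrx := mul_mem h.rA hx
  by_cases c1 : w1 = 1
  · exact Or.inl ⟨r, h.rA, h.rr ▸ h.z1, by simpa [c1, mul_inv_eq_iff_eq_mul] using e1⟩
  by_cases c2 : w2 = 1
  · exact Or.inl ⟨x, hx, xx ▸ h.u1, by simpa [c2, mul_inv_eq_iff_eq_mul] using e2⟩
  by_cases c3 : w1 * w2 = 1
  · exact Or.inl ⟨_, hrx, h.rx_sq hx xx ▸ h.swap.u1, by rwa [c3, mul_one, mul_inv_eq_iff_eq_mul] at e3⟩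
  refine Or.inr fun w hw => ?_
  have : w = 1 ∨ w = w1 ∨ w = w2 ∨ w = w1 * w2 := by
    have a1 : z * (z * u) = u := by rw [← mul_assoc, h.zz, one_mul]
    have a2 : u * (z * u) = z := by rw [h.zu, ← mul_assoc, h.uu, one_mul]
    have a3 : z * u * z = u := by rw [mul_assoc, ← h.zu, a1]
    have a4 : z * u * u = z := by rw [mul_assoc, h.uu, mul_one]
    have a5 := h.zu.symm
    rcases h.memU.1 hw1 with f1 | f1 | f1 | f1 <;> rcases h.memU.1 hw2 with f2 | f2 | f2 | f2 <;>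
      first
      | exact absurd f1 c1
      | exact absurd f2 c2
      | exact absurd (by rw [f1.trans f2.symm]; exact h.sqU hw2) c3
      | (have := h.memU.1 hw; simp only [f1, f2, a1, a2, a3, a4, a5]; tauto)
  rcases this with rfl | rfl | rfl | rfl
  exacts [⟨1, one_mem _, by simp⟩, ⟨r, h.rA, e1⟩, ⟨x, hx, e2⟩, ⟨_, hrx, e3⟩]

theorem three_beta (AN : A ≤ normalizer (P : Set X)) (hT : P ≤ S ⊓ Cx u) {a y : X} (ha : a ∈ A)
    (hy : y ∈ Omg P z) (hz : y ≠ z) (e : a * y * a⁻¹ = y * u) : False := by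
  by_cases hc : ∃ b ∈ A, b * b ≠ 1 ∧ b ∈ P
  swap
  · have key : ∀ t ∈ Omg P z, t ≠ z → ∀ w ∈ closure ({z, u} : Set X), t * w ∈ Omg P z :=
      fun t ht tz w hw => by
        obtain ⟨b, hb, e⟩ := (h.orb hx xx (h.om_T ht)).resolve_left (fun ⟨b, hb, b1, e⟩ =>
          hc ⟨b, hb, b1, h.cent ht tz ▸ ⟨h.AS hb, mem_Cx.2 e⟩⟩) w hw
        exact e ▸ h.om_conj (AN hb) ht
    have h1 := key y hy hz u h.uU
    obtain ⟨g, hg, rfl⟩ := hy
    have h2 := h.om_conj hg (key _ (h.om_conj (inv_mem hg) h1) (fun e => h.u1 (by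
      have : g * z * g⁻¹ * u = g * z * g⁻¹ := by nth_rw 2 [← e]; group
      simpa using this)) z h.zU)
    have h3 : g * (g⁻¹ * (g * z * g⁻¹ * u) * g⁻¹⁻¹ * z) * g⁻¹ = u := by
      have := h.om_cent ⟨g, hg, rfl⟩ (h.UP h.uU)
      calc _ = g * z * g⁻¹ * (u * (g * z * g⁻¹)) := by group
        _ = u := by rw [this, ← mul_assoc, h.om_sq ⟨g, hg, rfl⟩, one_mul]
    exact h.nu (h.om_isConj (h3 ▸ h2))
  obtain ⟨b, hb, b1, bP⟩ := hc
  obtain ⟨v, ev⟩ : ∃ v, v = b * b := ⟨_, rfl⟩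
  have hv : v = u ∨ v = z * u :=
    ((h.memU.1 (ev ▸ h.sqA hb)).resolve_left (ev ▸ b1)).resolve_left (ev ▸ h.sq_ne_z hT bP)
  have vU : ∀ g ∈ normalizer (P : Set X), g * v * g⁻¹ ∈ closure ({z, u} : Set X) := fun g hg => by
    have := h.sq_mem (hT (conj_mem_of_mem_normalizer hg bP)) (by
      rw [conj_mul, ← ev, conj_mul, h.sqU (h.hvU hv)]; simp)
    rwa [conj_mul, ← ev] at this
  have fix : ∀ g ∈ normalizer (P : Set X), g * v * g⁻¹ = v := fun g hg => by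
    rcases h.memU' hv (vU g hg) with e' | e' | e' | e'
    · exact absurd (conj_eq_one_iff.1 e') (ev ▸ b1)
    · exact absurd (e' ▸ isConj_conj g v).symm (h.nconj hv)
    · exact e'
    · obtain ⟨k, hk, rfl⟩ := hy
      refine absurd ?_ (h.om_nU ⟨k, hk, rfl⟩ hz)
      have := mul_mem (vU _ (mul_mem hk hg)) (inv_mem (vU k hk))
      convert this using 1
      rw [eq_mul_inv_of_mul_eq e'.symm]; group
  have nc : ∀ w ∈ Omg P z, ¬ IsConj z (w * v) := by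
    rintro _ ⟨g, hg, rfl⟩ c
    refine h.nconj (h.hv_z hv) (c.trans ?_)
    have := (isConj_conj g (z * v)).symm
    rwa [← conj_mul, fix g hg] at this
  have hyu : y * u ∈ Omg P z := e ▸ h.om_conj (AN ha) hy
  have hv' : v = z * u := hv.resolve_left fun e => nc y hy (e ▸ h.om_isConj hyu)
  have hΦ : y ∈ Phi S z u v := by
    obtain ⟨g, hg, e⟩ := hy
    exact ⟨h.om_T ⟨g, hg, e⟩, g, mem_Cx'.2 (fix g hg), z, h.zU, e⟩
  refine h.tstar hv hv hΦ (h.om_nU hy hz) (fun c => nc _ hyu ?_)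
    fun c => nc y hy ((h.om_isConj hy).trans c)
  rw [hv', h.zu, mul_assoc, ← mul_assoc u, h.uu, one_mul]
  exact (h.om_isConj hy).trans c

theorem three_E {a γ y : X} (ha : a ∈ A) (aN : a ∈ normalizer (P : Set X))
    (hα : ∀ y ∈ Omg P z, y ≠ z → a * y * a⁻¹ = y * z) (hγ : γ ∈ normalizer (P : Set X))
    (ey : y = γ * z * γ⁻¹) (hz : y ≠ z)
    (hE : ∃ w ∈ closure ({z, u} : Set X), γ * u * γ⁻¹ = w ∨ γ * u * γ⁻¹ = w * y) : False := by
  obtain ⟨v, hv, hT, hΦ, ⟨b, bN, bv, bz⟩, star, s, hs, hn, e⟩ := h.caseE ha aN hα hγ ey hz hE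
  have hy : y ∈ Omg P z := ⟨γ, hγ, ey⟩
  have cP : ∀ c ∈ S, c * y = y * c → c ∈ P := fun c hc e => h.cent hy hz ▸ ⟨hc, mem_Cx.2 e⟩
  obtain ⟨c, hc, c1, cy⟩ := (h.orb hx xx (h.om_T hy)).resolve_right fun k => by
    obtain ⟨c, -, e⟩ := k u h.uU
    rcases star u h.uU ((h.om_isConj hy).trans (e ▸ isConj_conj c y)) with e | e
    exacts [h.u1 e, h.ne e.symm]
  have hcP := cP c (h.AS hc) cy
  have cv : c * c = v := by
    rcases h.memU' hv (h.sqA hc) with e | e | e | e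
    · exact absurd e c1
    · exact absurd e (h.sq_ne_z hT hcP)
    · exact e
    · have := h.sq_mem (hT (conj_mem_of_mem_normalizer bN hcP)) (by
        rw [conj_mul, conj_mul, h.sqU (h.sqA hc)]; simp)
      rw [conj_mul, e, ← conj_mul, bz, bv] at this
      exact absurd ((mul_mem_cancel_left h.zU).1 ((mul_mem_cancel_right (h.hvU hv)).1 this))
        (h.om_nU hy hz)
  have hc' := h.conjA (inv_mem hs) hc
  obtain ⟨w, hw, -, e1⟩ := h.cmA (h.om_T hy) hc'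
  have ew : w = z := (star w hw ((h.om_isConj hy).trans (e1 ▸ isConj_conj _ y))).resolve_left
    fun e2 => h.sq_ne_z hT (mul_mem (cP _ (h.AS hc') (by
      rwa [e2, mul_one, mul_inv_eq_iff_eq_mul] at e1)) hcP) (by
      have hn' : s⁻¹ ∉ Cx u := fun e => hn (inv_mem_iff.1 e)
      rw [Commute.mul_mul_mul_comm (h.Ac c hc _ hc'), conj_mul, cv]
      rcases hv with rfl | rfl
      · rw [h.cu (inv_mem hs) hn', mul_assoc, h.uu, mul_one]
      · rw [h.czu (inv_mem hs) hn', h.zu, ← mul_assoc, h.uu, one_mul])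
  have yT := h.conj_T hs (h.om_T hy)
  have e2 : c * (s * y * s⁻¹) * c⁻¹ = s * y * s⁻¹ * z := by
    calc _ = s * (s⁻¹ * c * s⁻¹⁻¹ * y * (s⁻¹ * c * s⁻¹⁻¹)⁻¹) * s⁻¹ := by group
      _ = _ := by rw [e1, ew, ← conj_mul, h.cz hs]
  have e3 : s * y * s⁻¹ * y * (s * y * s⁻¹)⁻¹ = y * z := by
    rw [← e, commutatorElement_def, mul_assoc y, mul_assoc y, ← mul_assoc y, h.om_sq hy, one_mul,
      inv_eq_of_mul_eq_one_right (h.om_sq hy)]
  obtain ⟨y', ey'⟩ : ∃ y', y' = s * y * s⁻¹ := ⟨_, rfl⟩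
  rw [← ey'] at yT e2 e3
  have hp : a⁻¹ * y' ∈ P := cP _ (mul_mem (inv_mem (h.AS ha)) yT.1) (by
    rw [← hα y hy hz] at e3
    calc _ = a⁻¹ * (y' * y * y'⁻¹) * y' := by group
      _ = _ := by rw [e3]; group)
  have e4 : ⁅c, a⁻¹ * y'⁆ = z := by
    have := h.Ac c hc _ (inv_mem ha)
    calc _ = c * a⁻¹ * c⁻¹ * (c * y' * c⁻¹) * (a⁻¹ * y')⁻¹ := by rw [commutatorElement_def]; group
      _ = a⁻¹ * y' * z * (a⁻¹ * y')⁻¹ := by rw [e2, this]; group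
      _ = z := h.cz (h.PS hp)
  have e5 : ⁅γ * c * γ⁻¹, γ * (a⁻¹ * y') * γ⁻¹⁆ = y := by
    rw [ey, ← e4, commutatorElement_def, commutatorElement_def]; group
  exact h.om_nU hy hz (e5 ▸ h.cm_mem (hT (conj_mem_of_mem_normalizer hγ hcP))
    (hT (conj_mem_of_mem_normalizer hγ hp)) (by rw [e5, h.om_sq hy]))

theorem three_V {γ y : X} (hγ : γ ∈ normalizer (P : Set X)) (ey : y = γ * z * γ⁻¹) (hz : y ≠ z)
    (hV : ∀ w ∈ closure ({z, u} : Set X), γ * u * γ⁻¹ ≠ w ∧ γ * u * γ⁻¹ ≠ w * y) : False := by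
  have hy : y ∈ Omg P z := ⟨γ, hγ, ey⟩
  have hz' : γ⁻¹ * z * γ⁻¹⁻¹ ≠ z := by simpa using h.inv_ne (ey ▸ hz)
  have hy' : γ⁻¹ * z * γ⁻¹⁻¹ ∈ Omg P z := ⟨_, inv_mem hγ, rfl⟩
  have nU : ∀ w ∈ closure ({z, u} : Set X), γ * w * γ⁻¹ ∈ closure ({z, u} : Set X) → w = 1 :=
    fun w hw k => by
      rcases h.memU.1 hw with e | e | e | e
      · exact e
      · exact absurd (ey ▸ e ▸ k) (h.om_nU hy hz)
      · exact absurd (e ▸ rfl) (hV _ k).1
      · refine absurd ?_ (hV _ k).2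
        rw [e, ey, conj_mul, mul_assoc z, ← h.zu, ← mul_assoc z, h.zz, one_mul]
  have nc : ∀ c ∈ A, c * c ≠ 1 → c ∉ P := fun c hc c1 cP => by
    have hS := h.PS (conj_mem_of_mem_normalizer hγ cP)
    by_cases e : γ * c * γ⁻¹ ∈ Cx u
    · have := h.sq_mem ⟨hS, e⟩ (by rw [conj_mul, conj_mul, h.sqU (h.sqA hc)]; simp)
      rw [conj_mul] at this
      exact c1 (nU _ (h.sqA hc) this)
    · have hu := h.conjU_T (inv_mem hγ) hz' h.uU
      obtain ⟨w, hw, -, e1⟩ := h.cmA hu hc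
      have e2 : c * (γ⁻¹ * u * γ⁻¹⁻¹) * c⁻¹ = γ⁻¹ * z * γ⁻¹⁻¹ * (γ⁻¹ * u * γ⁻¹⁻¹) := by
        rw [conj_mul, ← h.cu hS e]; group
      rw [e2, h.cU hu hw] at e1
      exact h.om_nU hy' hz' (mul_right_cancel e1 ▸ hw)
  have full : ∀ t ∈ Omg P z, t ≠ z → ∀ w ∈ closure ({z, u} : Set X), IsConj z (t * w) :=
    fun t ht tz w hw => by
      obtain ⟨b, hb, e⟩ := (h.orb hx xx (h.om_T ht)).resolve_left (fun ⟨b, hb, b1, e⟩ =>
        nc b hb b1 (h.cent ht tz ▸ ⟨h.AS hb, mem_Cx.2 e⟩)) w hw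
      exact (h.om_isConj ht).trans (e ▸ isConj_conj b t)
  have full' : ∀ w ∈ closure ({z, u} : Set X), IsConj z (z * (γ * w * γ⁻¹)) := fun w hw => by
    have := (full _ hy' hz' w hw).trans (isConj_conj γ _)
    convert this using 1; group
  have hu := h.conjU_T (inv_mem hγ) hz' h.uU
  obtain ⟨c, hc, c1, cu⟩ := (h.orb hx xx hu).resolve_right fun k => by
    obtain ⟨c, -, e⟩ := k z h.zU
    have e1 : IsConj u (y * u) := by
      have := ((isConj_conj γ⁻¹ u).trans (e ▸ isConj_conj c _)).trans (isConj_conj γ _)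
      convert this using 1
      rw [h.cU (h.om_T hy) h.uU, ey]; group
    exact h.nu ((full y hy hz u h.uU).trans e1.symm)
  obtain ⟨w0, hw0, -, e0⟩ := h.cmA (h.om_T hy') hc
  have w1 : w0 ≠ 1 := fun e => nc c hc c1 (h.cent hy' hz' ▸ ⟨h.AS hc, mem_Cx'.2 (by
    rw [e0, e, mul_one])⟩)
  obtain ⟨w, ew⟩ : ∃ w, w = γ * w0 * γ⁻¹ := ⟨_, rfl⟩
  have wT : w ∈ S ⊓ Cx u := ew ▸ h.conjU_T hγ (ey ▸ hz) hw0
  have wU : w ∉ closure ({z, u} : Set X) := fun k => w1 (nU _ hw0 (ew ▸ k))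
  have ww : w * w = 1 := by rw [ew, conj_mul, h.sqU hw0]; simp
  have ku : γ * c * γ⁻¹ * u * (γ * c * γ⁻¹)⁻¹ = u := by
    calc _ = γ * (c * (γ⁻¹ * u * γ⁻¹⁻¹)) * c⁻¹ * γ⁻¹ := by group
      _ = _ := by rw [cu]; group
  have kz : γ * c * γ⁻¹ * z * (γ * c * γ⁻¹)⁻¹ = z * w := by
    calc _ = γ * (c * (γ⁻¹ * z * γ⁻¹⁻¹) * c⁻¹) * γ⁻¹ := by group
      _ = _ := by rw [e0, ew]; group
  have wz := h.zc w wT.1
  have ef : γ * c * γ⁻¹ * (z * u) * (γ * c * γ⁻¹)⁻¹ = w * (z * u) := by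
    rw [← conj_mul, ku, kz, ← wz, mul_assoc]
  have nf : ¬ IsConj z (w * (z * u)) := fun k => h.nzu (k.trans (ef ▸ isConj_conj _ _).symm)
  have hΦ : w * (z * u) ∈ Phi S z u u :=
    ⟨mul_mem wT (h.UT (mul_mem h.zU h.uU)), _, mem_Cx'.2 ku, _, mul_mem h.zU h.uU, ef.symm⟩
  have cz : IsConj z (w * z) := by rw [wz, ew]; exact full' w0 hw0
  have nw : ¬ IsConj z w := fun k => by
    have := h.eq_z hw0 (k.trans (ew ▸ isConj_conj γ w0).symm)
    rw [this, ← ey] at ew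
    exact nf (ew ▸ full y hy hz _ (mul_mem h.zU h.uU))
  obtain ⟨b, hb, hb'⟩ : ∃ b ∈ A, w * b ≠ b * w := by
    by_contra! k
    exact wU (h.invC wT.1 k ww)
  obtain ⟨t, ht, -, et⟩ := h.cmA wT hb
  have cb : IsConj z (w * t * z) := by
    have := cz.trans (isConj_conj b _)
    rwa [← conj_mul, et, h.cz (h.AS hb)] at this
  have cu' : IsConj z (w * u) := by
    rcases h.memU.1 ht with e | e | e | e <;> rw [e] at et cb
    · exact absurd (by rwa [mul_one, mul_inv_eq_iff_eq_mul, eq_comm] at et) hb'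
    · exact absurd (cz.trans (et ▸ isConj_conj b w).symm) nw
    · exact absurd (by rwa [h.zu, ← mul_assoc]) nf
    · rwa [mul_assoc, mul_assoc, ← h.zu, ← mul_assoc z, h.zz, one_mul] at cb
  refine h.tstar (Or.inl rfl) (Or.inl rfl) hΦ
    (fun k => wU ((mul_mem_cancel_right (mul_mem h.zU h.uU)).1 k)) (fun k => nf (cu'.trans ?_))
    fun k => nf (cz.trans ?_)
  · rw [mul_assoc, mul_assoc, ← h.zu, ← mul_assoc z, h.zz, one_mul] at k
    exact k.symm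
  · rw [mul_assoc, mul_assoc, h.uu, mul_one] at k
    exact k.symm

end NF

theorem NF.three (h : NF S A P z u r) {x : X} (hx : x ∈ A) (xx : x * x = u) : False := by
  rcases h.alpha_or_beta with ⟨a, ha, aN, hα⟩ | ⟨AN, hT, a, ha, y, hy, hz, e | e⟩
  · obtain ⟨y, ⟨γ, hγ, ey⟩, hz⟩ := h.mv
    by_cases hE : ∃ w ∈ closure ({z, u} : Set X), γ * u * γ⁻¹ = w ∨ γ * u * γ⁻¹ = w * y
    · exact h.three_E hx xx ha aN (fun y hy hz => (hα y hy hz).1) hγ ey hz hE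
    · push Not at hE
      exact h.three_V hx xx hγ ey hz hE
  · exact h.three_beta hx xx AN hT ha hy hz e
  · exact h.swap.three_beta (mul_mem h.rA hx) (h.rx_sq hx xx) AN (h.T_swap ▸ hT) ha hy hz e

end CfsgLib.GHB
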